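import Cfsg.Agent.Golay.Cover.Data
import Cfsg.Agent.Golay.AutCert
import Cfsg.Agent.Schur.Criteria

/-!
The double cover maps onto the Mathieu group on twelve letters.
-/

set_option autoImplicit false
set_option maxRecDepth 100000
set_option maxHeartbeats 2000000
set_option linter.style.haveILetI false

namespace Cfsg.Lib.Golay

open Cfsg Cfsg.Lib.PermCert MulAction
open scoped Pointwise

theorem cgCover_ok : cgCover.ok = true ∧ cgCoverSyl.ok = true ∧ cgCoverSyl3.ok = true := by decide +kernel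

theorem coverZ_valid : valid 24 coverZ = true ∧ sift 24 cgCover.chain [coverZ] = true := by decide +kernel

theorem coverZ_pairs : (∀ i : Fin 24, ap coverZ.1 i.1 / 2 = i.1 / 2) ∧
    ∀ i : Fin 24, i.1 = 2 * (i.1 / 2) ∨ i.1 = ap coverZ.1 (2 * (i.1 / 2)) := by decide +kernel

theorem coverZ_comm : (cgCover.gens.all fun g => FusionCert.same [g.1, coverZ] [coverZ, g.1]) = true := by
  decide +kernel

theorem cover_commute {g : Equiv.Perm GolayPt} (hg : g ∈ cgCover.grp) : Commute g (toP coverZ) := by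
  obtain ⟨-, hv, hcl⟩ := CG.ok_spec cgCover_ok.1
  rw [← hcl] at hg
  induction hg using Subgroup.closure_induction with
  | mem x hx =>
    obtain ⟨s, hs, rfl⟩ := hx
    have h := List.all_eq_true.mp coverZ_comm s hs
    have rs := rep_toP (valid_of_fvalid (hv s hs))
    have rz := rep_toP coverZ_valid.1
    exact ((rs.mul rz).eq_iff (rz.mul rs)).mpr h
  | one => exact Commute.one_left _
  | mul a b _ _ ha hb => exact ha.mul_left hb
  | inv a _ ha => exact ha.inv_left

/-- The pair of a point. -/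
def pairIdx (p : GolayPt) : Fin 12 := ⟨pidx p / 2, by have := pidx_lt p; omega⟩

/-- The first point of a pair. -/
def pairPt (j : Fin 12) : GolayPt := ptAt (2 * j.1)

theorem pairIdx_pairPt (j : Fin 12) : pairIdx (pairPt j) = j := by
  have h : ∀ j : Fin 12, pairIdx (pairPt j) = j := by decide +kernel
  exact h j

theorem pairIdx_z (p : GolayPt) : pairIdx (toP coverZ p) = pairIdx p := by
  refine Fin.ext ?_
  show pidx (toP coverZ p) / 2 = pidx p / 2
  rw [pidx_toP coverZ_valid.1]
  exact coverZ_pairs.1 ⟨pidx p, pidx_lt p⟩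

theorem pairPt_pairIdx (p : GolayPt) :
    p = pairPt (pairIdx p) ∨ p = toP coverZ (pairPt (pairIdx p)) := by
  have e : pidx (pairPt (pairIdx p)) = 2 * (pidx p / 2) := by
    have := pidx_lt p
    exact pidx_ptAt ⟨2 * (pidx p / 2), by omega⟩
  rcases coverZ_pairs.2 ⟨pidx p, pidx_lt p⟩ with h | h
  · exact Or.inl (pidx_injective (by rw [e]; exact h))
  · exact Or.inr (pidx_injective (by rw [pidx_toP coverZ_valid.1, e]; exact h))

/-- The action on pairs. -/
def pairHom : cgCover.grp →* Equiv.Perm (Fin 12) :=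
  MonoidHom.toHomPerm
    { toFun := fun g => fun j => pairIdx ((g : Equiv.Perm GolayPt) (pairPt j))
      map_one' := funext fun j => pairIdx_pairPt j
      map_mul' := fun g h => funext fun j => by
        show pairIdx ((g : Equiv.Perm GolayPt) ((h : Equiv.Perm GolayPt) (pairPt j))) =
          pairIdx ((g : Equiv.Perm GolayPt) (pairPt (pairIdx ((h : Equiv.Perm GolayPt) (pairPt j)))))
        rcases pairPt_pairIdx ((h : Equiv.Perm GolayPt) (pairPt j)) with e | e
        · rw [← e]
        · conv_lhs => rw [e]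
          rw [show ∀ q, (g : Equiv.Perm GolayPt) (toP coverZ q) = toP coverZ ((g : Equiv.Perm GolayPt) q) from
            fun q => congrArg (fun x : Equiv.Perm GolayPt => x q) (cover_commute g.2).eq, pairIdx_z] }

theorem pairHom_apply (g : cgCover.grp) (j : Fin 12) :
    (pairHom g j : ℕ) = pidx ((g : Equiv.Perm GolayPt) (pairPt j)) / 2 := rfl

/-- The number of a dodecad point. -/
def dodIdx (p : GolayPt) : Fin 12 := ⟨coverDod.idxOf (pidx p) % 12, Nat.mod_lt _ (by norm_num)⟩

/-- The dodecad point with a number. -/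
def dodPt (j : Fin 12) : GolayPt := ptAt (coverDod.getD j.1 0)

theorem dod_facts : (∀ j : Fin 12, dodIdx (dodPt j) = j) ∧
    ∀ i : Fin 24, (340831 : ℕ).testBit i.1 = true → dodPt (dodIdx (ptAt i.1)) = ptAt i.1 := by decide +kernel

theorem dod_mem : ∀ j : Fin 12, (340831 : ℕ).testBit (coverDod.getD j.1 0) = true ∧
    coverDod.getD j.1 0 < 24 := by decide +kernel

theorem mem_dodecad_iff (p : GolayPt) : p ∈ Spor.squareDodecad ↔ (340831 : ℕ).testBit (pidx p) = true := by
  rw [squareDodecad_eq]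
  conv_lhs => rw [← ptAt_pidx p]
  exact mem_pts_ptAt _ _ (pidx_lt p)

theorem dodPt_dodIdx {p : GolayPt} (hp : p ∈ Spor.squareDodecad) : dodPt (dodIdx p) = p := by
  have := dod_facts.2 ⟨pidx p, pidx_lt p⟩ ((mem_dodecad_iff p).mp hp)
  simpa [ptAt_pidx] using this

theorem dodPt_mem (j : Fin 12) : dodPt j ∈ Spor.squareDodecad := by
  rw [squareDodecad_eq, dodPt, mem_pts_ptAt _ _ (dod_mem j).2]
  exact (dod_mem j).1

/-- The action on the dodecad. -/
def dodHom : Spor.M12 →* Equiv.Perm (Fin 12) :=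
  MonoidHom.toHomPerm
    { toFun := fun g => fun j => dodIdx ((g : Equiv.Perm GolayPt) (dodPt j))
      map_one' := funext fun j => dod_facts.1 j
      map_mul' := fun g h => funext fun j => by
        show dodIdx ((g : Equiv.Perm GolayPt) ((h : Equiv.Perm GolayPt) (dodPt j))) =
          dodIdx ((g : Equiv.Perm GolayPt) (dodPt (dodIdx ((h : Equiv.Perm GolayPt) (dodPt j)))))
        have hst := mem_stabilizer_iff.mp h.2.2
        have hm : (h : Equiv.Perm GolayPt) (dodPt j) ∈ Spor.squareDodecad :=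
          hst ▸ Finset.smul_mem_smul_finset (dodPt_mem j)
        rw [dodPt_dodIdx hm] }

theorem dodHom_apply (g : Spor.M12) (j : Fin 12) :
    (dodHom g j : ℕ) = coverDod.idxOf (pidx ((g : Equiv.Perm GolayPt) (dodPt j))) % 12 := rfl

theorem m12_gen_mem {h : PP} (hv : valid 24 h = true) (hs : sift 24 m12Chain [h] = true) :
    toP h ∈ Spor.M12 := by
  rw [M12_eq]
  exact ⟨perm 24 h, by simpa using mem_grp_of_sift m12Chain_check (w := [h]) (by simpa using hv) hs, rfl⟩

theorem dodHom_injective : Function.Injective dodHom := by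
  haveI := isSimple_M12
  rw [← MonoidHom.ker_eq_bot_iff]
  rcases dodHom.normal_ker.eq_bot_or_eq_top with h | h
  · exact h
  exfalso
  obtain ⟨hv, hs, hne⟩ : valid 24 (coverImgs.getD 0 coverZ) = true ∧
      sift 24 m12Chain [coverImgs.getD 0 coverZ] = true ∧
      ((List.range 12).any fun j => coverDod.idxOf (ap (coverImgs.getD 0 coverZ).1 (coverDod.getD j 0)) % 12 != j) =
        true := by decide +kernel
  simp only [List.any_eq_true, List.mem_range, bne_iff_ne] at hne
  obtain ⟨j, hj, hne⟩ := hne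
  have h1 : dodHom ⟨_, m12_gen_mem hv hs⟩ = 1 :=
    MonoidHom.mem_ker.mp (h ▸ Subgroup.mem_top _)
  apply hne
  have h2 := congrArg (fun q : Equiv.Perm (Fin 12) => (q ⟨j, hj⟩ : ℕ)) h1
  simp only [dodHom_apply, pidx_toP hv, dodPt, pidx_ptAt ⟨_, (dod_mem ⟨j, hj⟩).2⟩] at h2
  exact h2

/-- Two tables act alike. -/
def alike (g h : PP) : Bool :=
  valid 24 g && valid 24 h && sift 24 cgCover.chain [g] && sift 24 m12Chain [h] &&
    (List.range 12).all fun j => ap g.1 (2 * j) / 2 == coverDod.idxOf (ap h.1 (coverDod.getD j 0)) % 12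

theorem alike_sound {g h : PP} (h0 : alike g h = true) :
    ∃ (hg : toP g ∈ cgCover.grp) (hh : toP h ∈ Spor.M12), pairHom ⟨_, hg⟩ = dodHom ⟨_, hh⟩ := by
  simp only [alike, Bool.and_eq_true, List.all_eq_true, List.mem_range, beq_iff_eq] at h0
  obtain ⟨⟨⟨⟨vg, vh⟩, sg⟩, sh⟩, hpts⟩ := h0
  refine ⟨mem_of_sift cgCover_ok.1 vg sg, m12_gen_mem vh sh, Equiv.ext fun j => Fin.ext ?_⟩
  rw [pairHom_apply, dodHom_apply, pairPt, pidx_toP vg, pidx_toP vh, dodPt,
    pidx_ptAt ⟨_, (dod_mem j).2⟩, pidx_ptAt ⟨2 * j.1, by omega⟩]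
  exact hpts j.1 j.2

theorem alike_ok : (List.zip (cgCover.gens.map (·.1)) coverImgs).all (fun p => alike p.1 p.2) = true ∧
    (cgCover.gens.map (·.1)).all (fun g => coverImgs.any (alike g)) = true ∧
    (topGens m12Chain).all (fun h => coverLifts.any fun g => alike g h) = true := by decide +kernel

theorem pairHom_range : pairHom.range = dodHom.range := by
  refine le_antisymm ?_ ?_
  · obtain ⟨-, hv, hcl⟩ := CG.ok_spec cgCover_ok.1
    rintro _ ⟨⟨x, hx⟩, rfl⟩
    have key : ∀ y ∈ Subgroup.closure {p | ∃ g ∈ cgCover.gens, toP g.1 = p},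
        ∃ hy : y ∈ cgCover.grp, pairHom ⟨y, hy⟩ ∈ dodHom.range := by
      intro y hy
      induction hy using Subgroup.closure_induction with
      | mem p hp =>
        obtain ⟨s, hs, rfl⟩ := hp
        have h1 := List.all_eq_true.mp alike_ok.2.1 s.1 (List.mem_map.mpr ⟨s, hs, rfl⟩)
        obtain ⟨h, -, hh⟩ := List.any_eq_true.mp h1
        obtain ⟨hg, hh', e⟩ := alike_sound hh
        exact ⟨hg, _, e.symm⟩
      | one => exact ⟨one_mem _, by rw [show (⟨1, _⟩ : cgCover.grp) = 1 from rfl, map_one]; exact one_mem _⟩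
      | mul a b _ _ ha hb =>
        obtain ⟨ha', ha⟩ := ha
        obtain ⟨hb', hb⟩ := hb
        refine ⟨mul_mem ha' hb', ?_⟩
        rw [show (⟨a * b, _⟩ : cgCover.grp) = ⟨a, ha'⟩ * ⟨b, hb'⟩ from rfl, map_mul]
        exact mul_mem ha hb
      | inv a _ ha =>
        obtain ⟨ha', ha⟩ := ha
        refine ⟨inv_mem ha', ?_⟩
        rw [show (⟨a⁻¹, _⟩ : cgCover.grp) = ⟨a, ha'⟩⁻¹ from rfl, map_inv]
        exact inv_mem ha
    obtain ⟨_, h⟩ := key x (hcl ▸ hx)
    exact h
  · rintro _ ⟨⟨x, hx⟩, rfl⟩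
    have key : ∀ y ∈ Subgroup.closure {p | ∃ h ∈ topGens m12Chain, toP h = p},
        ∃ hy : y ∈ Spor.M12, dodHom ⟨y, hy⟩ ∈ pairHom.range := by
      intro y hy
      induction hy using Subgroup.closure_induction with
      | mem p hp =>
        obtain ⟨h, hh, rfl⟩ := hp
        obtain ⟨g, -, hg⟩ := List.any_eq_true.mp (List.all_eq_true.mp alike_ok.2.2 h hh)
        obtain ⟨hg', hh', e⟩ := alike_sound hg
        exact ⟨hh', _, e⟩
      | one => exact ⟨one_mem _, by rw [show (⟨1, _⟩ : Spor.M12) = 1 from rfl, map_one]; exact one_mem _⟩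
      | mul a b _ _ ha hb =>
        obtain ⟨ha', ha⟩ := ha
        obtain ⟨hb', hb⟩ := hb
        refine ⟨mul_mem ha' hb', ?_⟩
        rw [show (⟨a * b, _⟩ : Spor.M12) = ⟨a, ha'⟩ * ⟨b, hb'⟩ from rfl, map_mul]
        exact mul_mem ha hb
      | inv a _ ha =>
        obtain ⟨ha', ha⟩ := ha
        refine ⟨inv_mem ha', ?_⟩
        rw [show (⟨a⁻¹, _⟩ : Spor.M12) = ⟨a, ha'⟩⁻¹ from rfl, map_inv]
        exact inv_mem ha
    have hx' : x ∈ Subgroup.closure {p | ∃ h ∈ topGens m12Chain, toP h = p} := by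
      rw [onPts_eq_closure, ← M12_eq]; exact hx
    obtain ⟨_, h⟩ := key x hx'
    exact h

/-- The covering map. -/
noncomputable def coverHom : cgCover.grp →* Spor.M12 :=
  (MonoidHom.ofInjective dodHom_injective).symm.toMonoidHom.comp
    (pairHom.codRestrict dodHom.range fun g => pairHom_range ▸ ⟨g, rfl⟩)

theorem coverHom_surjective : Function.Surjective coverHom := by
  intro y
  obtain ⟨g, hg⟩ : dodHom y ∈ pairHom.range := pairHom_range ▸ ⟨y, rfl⟩
  refine ⟨g, (MonoidHom.ofInjective dodHom_injective).injective (Subtype.ext ?_)⟩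
  simp only [coverHom, MonoidHom.comp_apply, MulEquiv.coe_toMonoidHom, MulEquiv.apply_symm_apply]
  exact hg

theorem card_cover : Nat.card cgCover.grp = 190080 := by
  rw [CG.card_grp cgCover_ok.1]; decide +kernel

theorem card_ker_coverHom : Nat.card coverHom.ker = 2 := by
  have h := coverHom.ker.card_mul_index
  have e : coverHom.ker.index = Nat.card Spor.M12 := by
    rw [Subgroup.index_ker, MonoidHom.range_eq_top.mpr coverHom_surjective, Subgroup.card_top]
  have e2 : ∀ a b c : ℕ, a * b = c → b = 95040 → c = 190080 → a = 2 := fun a b c h1 h2 h3 => by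
    subst h2; subst h3
    exact Nat.eq_of_mul_eq_mul_right (by norm_num) (h1.trans (by norm_num : (190080 : ℕ) = 2 * 95040))
  exact e2 _ _ _ h (e.trans card_M12) card_cover

theorem ker_coverHom_central : coverHom.ker ≤ Subgroup.center cgCover.grp := by
  intro x hx
  refine Subgroup.mem_center_iff.mpr fun g => ?_
  obtain ⟨a, b, hab, hset⟩ := Nat.card_eq_two_iff.mp card_ker_coverHom
  by_cases h1 : x = 1
  · rw [h1, mul_one, one_mul]
  have key : ∀ y : coverHom.ker, y = 1 ∨ y = ⟨x, hx⟩ := by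
    intro y
    have cases' : ∀ z : coverHom.ker, z = a ∨ z = b := fun z => by
      have : z ∈ ({a, b} : Set coverHom.ker) := hset ▸ Set.mem_univ z
      exact this
    have hne : (1 : coverHom.ker) ≠ ⟨x, hx⟩ := fun e => h1 (congrArg Subtype.val e).symm
    rcases cases' 1 with e1 | e1 <;> rcases cases' ⟨x, hx⟩ with e2 | e2 <;> rcases cases' y with e3 | e3 <;>
      simp_all
  rcases key ⟨g * x * g⁻¹, coverHom.normal_ker.conj_mem x hx g⟩ with e | e
  · exact absurd (conj_eq_one_iff.mp (congrArg Subtype.val e)) h1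
  · exact mul_inv_eq_iff_eq_mul.mp (congrArg Subtype.val e)

theorem cover_stem : Cfsg.IsStemExtension coverHom ∧ commutator cgCover.grp = ⊤ := by
  haveI := isSimple_M12
  obtain ⟨hvu, hsu, hvw, hsw, he, hne⟩ : valid 24 coverU = true ∧ sift 24 cgCover.chain [coverU] = true ∧
      valid 24 coverW = true ∧ sift 24 cgCover.chain [coverW] = true ∧
      FusionCert.same [coverZ] [coverU, coverW, pinv coverU, pinv coverW] = true ∧
      FusionCert.same [coverZ] [] = false := by decide +kernel
  set u : cgCover.grp := ⟨_, mem_of_sift cgCover_ok.1 hvu hsu⟩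
  set w : cgCover.grp := ⟨_, mem_of_sift cgCover_ok.1 hvw hsw⟩
  set z : cgCover.grp := ⟨_, mem_of_sift cgCover_ok.1 coverZ_valid.1 coverZ_valid.2⟩
  have hz : z ∈ commutator cgCover.grp := by
    have e : z = u * w * u⁻¹ * w⁻¹ := Subtype.ext
      ((((rep_toP coverZ_valid.1)).eq_iff ((((rep_toP hvu).mul (rep_toP hvw)).mul (rep_inv hvu)).mul
        (rep_inv hvw))).mpr he)
    rw [e, ← commutatorElement_def]
    exact Subgroup.commutator_mem_commutator (Subgroup.mem_top u) (Subgroup.mem_top w)
  have hz1 : z ≠ 1 := fun e => by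
    rw [((rep_toP coverZ_valid.1).eq_iff rep_one).mp (congrArg Subtype.val e)] at hne
    exact Bool.noConfusion hne
  have hzk : z ∈ coverHom.ker := by
    rw [MonoidHom.mem_ker]
    have hp : pairHom z = 1 := Equiv.ext fun j => by
      show pairIdx (toP coverZ (pairPt j)) = j
      rw [pairIdx_z, pairIdx_pairPt]
    refine (MonoidHom.ofInjective dodHom_injective).injective (Subtype.ext ?_)
    simp only [coverHom, MonoidHom.comp_apply, MulEquiv.coe_toMonoidHom, MulEquiv.apply_symm_apply, map_one]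
    exact hp
  have hle : coverHom.ker ≤ commutator cgCover.grp := by
    have hcl : Subgroup.zpowers z = coverHom.ker := by
      refine Subgroup.eq_of_le_of_card_ge (Subgroup.zpowers_le.mpr hzk) ?_
      rw [card_ker_coverHom, Nat.card_zpowers]
      exact Nat.two_le_iff _ |>.mpr ⟨(orderOf_pos z).ne', fun h => hz1 (orderOf_eq_one_iff.mp h)⟩
    rw [← hcl]
    exact Subgroup.zpowers_le.mpr hz
  refine ⟨⟨coverHom_surjective, ker_coverHom_central, hle⟩, ?_⟩
  have hM : commutator Spor.M12 = ⊤ := by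
    refine (Subgroup.Normal.eq_bot_or_eq_top (H := commutator Spor.M12) inferInstance).resolve_left fun hb => ?_
    have hcomm : ∀ a b : Spor.M12, a * b = b * a := fun a b => commutatorElement_eq_one_iff_mul_comm.mp
      ((Subgroup.eq_bot_iff_forall _).mp hb _
        (Subgroup.commutator_mem_commutator (Subgroup.mem_top a) (Subgroup.mem_top b)))
    letI : CommGroup Spor.M12 := { (inferInstance : Group Spor.M12) with mul_comm := hcomm }
    have hp := IsSimpleGroup.prime_card (α := Spor.M12)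
    rw [card_M12] at hp
    exact absurd hp (by norm_num)
  refine eq_top_iff.mpr fun g _ => ?_
  obtain ⟨d, hd, hdg⟩ : coverHom g ∈ (commutator cgCover.grp).map coverHom := by
    rw [commutator_def, Subgroup.map_commutator, Subgroup.map_top_of_surjective _ coverHom_surjective,
      ← commutator_def, hM]
    exact Subgroup.mem_top _
  have : d⁻¹ * g ∈ coverHom.ker := by rw [MonoidHom.mem_ker, map_mul, map_inv, hdg, inv_mul_cancel]
  simpa using (commutator cgCover.grp).mul_mem hd (hle this)

end Cfsg.Lib.Golay
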