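import Cfsg.Agent.Golay.Cover.Hom
import Cfsg.Agent.Golay.MultCert
import Cfsg.Agent.Schur.ExtraspecialThree
import Cfsg.Agent.Schur.UniversalCover

/-!
The multiplier of the Mathieu group on twelve letters has order two.
-/

set_option autoImplicit false
set_option maxRecDepth 100000
set_option maxHeartbeats 4000000
set_option linter.style.haveILetI false

namespace Cfsg.Lib.Golay

open Cfsg Cfsg.Lib.PermCert MulAction
open scoped commutatorElement

theorem cover_two_ok : gensIn cgCoverSyl cgCover = true ∧ coverPc.ok = true ∧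
    pcFacts cgCover cgCoverSyl coverPc coverX coverConj coverRep coverFuse = true ∧
    coverPc.fuse.length ≤ 1 ∧ size cgCoverSyl.chain = 2 ^ coverPc.n ∧
    2 ^ coverPc.n ∣ size cgCover.chain ∧ ¬ 2 ^ (coverPc.n + 1) ∣ size cgCover.chain := by
  decide +kernel

theorem cover_three_ok :
    (let a := coverA; let b := coverB; let c := coverC; let n := coverN
     let same := FusionCert.same
     [a, b, c, n].all (fun g => valid 24 g && sift 24 cgCover.chain [g]) &&
       [a, b].all (fun g => sift 24 cgCoverSyl3.chain [g]) &&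
       cgCoverSyl3.gens.all (fun g => coverWords.any fun w =>
         same [g.1] (List.replicate w.1 a ++ List.replicate w.2.1 b ++ List.replicate w.2.2 c)) &&
       same [c] [a, b, pinv a, pinv b] && !same [c] [] && same [a, a, a] [] && same [b, b, b] [] &&
       same [a, c] [c, a] && same [b, c] [c, b] && same [n, a, pinv n] [pinv a] && same [n, b, pinv n] [pinv b]) = true ∧
    gensIn cgCoverSyl3 cgCover = true ∧ size cgCoverSyl3.chain = 27 := by
  decide +kernel

theorem cover_ker_eq_bot {Γ : Type} [Group Γ] [Finite Γ] {σ : Γ →* cgCover.grp}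
    (hσ : Cfsg.IsStemExtension σ) : σ.ker = ⊥ := by
  obtain ⟨hin, hc, hf, hlen, hsz, hd, hnd⟩ := cover_two_ok
  have hok := cgCover_ok.1
  have hsyl := cgCover_ok.2.1
  obtain ⟨h, hin3, hs27⟩ := cover_three_ok
  simp only [Bool.and_eq_true, List.all_eq_true, Bool.not_eq_true', List.mem_cons, List.not_mem_nil, or_false,
    forall_eq_or_imp, forall_eq, List.any_eq_true] at h
  obtain ⟨⟨⟨⟨⟨⟨⟨⟨⟨⟨⟨⟨va, sa⟩, ⟨vb, sb⟩, ⟨vc, sc⟩, ⟨vn, sn⟩⟩, ta, tb⟩, hwords⟩, hab⟩, hc1⟩, ha3⟩, hb3⟩, hac⟩, hbc⟩, hna⟩, hnb⟩ := h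
  set a : cgCover.grp := ⟨_, mem_of_sift hok va sa⟩ with hA
  set b : cgCover.grp := ⟨_, mem_of_sift hok vb sb⟩ with hB
  set c : cgCover.grp := ⟨_, mem_of_sift hok vc sc⟩ with hC
  set n : cgCover.grp := ⟨_, mem_of_sift hok vn sn⟩ with hN
  have ra := rep_toP va; have rb := rep_toP vb; have rc := rep_toP vc; have rn := rep_toP vn
  have a3 : a ^ 3 = 1 := Subtype.ext (((rep_pow ra 3).eq_iff rep_one).mpr ha3)
  have b3 : b ^ 3 = 1 := Subtype.ext (((rep_pow rb 3).eq_iff rep_one).mpr hb3)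
  have hcc : c = ⁅a, b⁆ := Subtype.ext
    ((rc.eq_iff (((ra.mul rb).mul (rep_inv va)).mul (rep_inv vb))).mpr hab)
  have c1 : c ≠ 1 := fun e => by
    rw [(rc.eq_iff rep_one).mp (congrArg Subtype.val e)] at hc1; exact Bool.noConfusion hc1
  have eac : a * c = c * a := Subtype.ext (((ra.mul rc).eq_iff (rc.mul ra)).mpr hac)
  have ebc : b * c = c * b := Subtype.ext (((rb.mul rc).eq_iff (rc.mul rb)).mpr hbc)
  have ena : n * a * n⁻¹ = a⁻¹ :=
    Subtype.ext ((((rn.mul ra).mul (rep_inv vn)).eq_iff (rep_inv va)).mpr hna)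
  have enb : n * b * n⁻¹ = b⁻¹ :=
    Subtype.ext ((((rn.mul rb).mul (rep_inv vn)).eq_iff (rep_inv vb)).mpr hnb)
  have hle3 : cgCoverSyl3.grp ≤ cgCover.grp := grp_le_of_gensIn hok cgCover_ok.2.2 hin3
  have hclos : Nat.card (Subgroup.closure ({a, b} : Set cgCover.grp)) = 27 := by
    rw [show Subgroup.closure ({a, b} : Set cgCover.grp) = cgCoverSyl3.grp.subgroupOf cgCover.grp from ?_,
      Nat.card_congr (Subgroup.subgroupOfEquivOfLe hle3).toEquiv, CG.card_grp cgCover_ok.2.2, hs27]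
    refine le_antisymm ((Subgroup.closure_le _).mpr ?_) ?_
    · rintro x (rfl | rfl)
      · exact mem_of_sift cgCover_ok.2.2 va ta
      · exact mem_of_sift cgCover_ok.2.2 vb tb
    · intro x hx
      have mA : a ∈ Subgroup.closure ({a, b} : Set cgCover.grp) := Subgroup.subset_closure (Set.mem_insert a {b})
      have mB : b ∈ Subgroup.closure ({a, b} : Set cgCover.grp) :=
        Subgroup.subset_closure (Set.mem_insert_of_mem a (Set.mem_singleton b))
      have mC : c ∈ Subgroup.closure ({a, b} : Set cgCover.grp) := by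
        rw [hcc, commutatorElement_def]; exact mul_mem (mul_mem (mul_mem mA mB) (inv_mem mA)) (inv_mem mB)
      have hgen : cgCoverSyl3.grp ≤ (Subgroup.closure ({a, b} : Set cgCover.grp)).map cgCover.grp.subtype := by
        rw [← (CG.ok_spec cgCover_ok.2.2).2.2, Subgroup.closure_le]
        rintro _ ⟨g, hg, rfl⟩
        obtain ⟨w, -, hw⟩ := hwords g hg
        refine ⟨a ^ w.1 * b ^ w.2.1 * c ^ w.2.2,
          mul_mem (mul_mem (pow_mem mA _) (pow_mem mB _)) (pow_mem mC _), ?_⟩
        exact (((rep_toP (valid_of_fvalid ((CG.ok_spec cgCover_ok.2.2).2.1 g hg))).eq_iff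
          (((rep_pow ra w.1).mul (rep_pow rb w.2.1)).mul (rep_pow rc w.2.2))).mpr hw).symm
      obtain ⟨y, hy, hyx⟩ := hgen hx
      exact (Subtype.ext hyx : y = x) ▸ hy
  rw [hcc] at eac ebc c1
  refine Cfsg.Lib.Schur.ker_eq_bot_of_sylow hσ fun p hp => ?_
  haveI := hp
  by_cases h2 : p = 2
  · subst h2
    refine ⟨default, fun z hz hzS => ?_⟩
    by_contra hz1
    have hne' := mult_two_cert hok hsyl hin hc hf hlen hsz hd hnd hσ
    have hzp : IsPGroup 2 (Subgroup.zpowers z) :=
      (default : Sylow 2 Γ).2.to_le (Subgroup.zpowers_le.mpr (Subgroup.commutator_le_self _ hzS))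
    obtain ⟨k, hk⟩ := hzp.exists_card_eq
    rw [Nat.card_zpowers] at hk
    have hd2 : orderOf z ∣ Nat.card σ.ker := by
      rw [← Nat.card_zpowers]; exact Subgroup.card_dvd_of_le (Subgroup.zpowers_le.mpr hz)
    rcases k with _ | k
    · exact hz1 (orderOf_eq_one_iff.mp hk)
    · exact hne' (dvd_trans (by rw [hk]; exact dvd_pow_self 2 (Nat.succ_ne_zero k)) hd2)
  have h0 : (2 ^ 7 * 3 ^ 3 * 5 * 11 : ℕ) = 190080 := by norm_num
  by_cases h3 : p = 3
  · subst h3
    refine Cfsg.Lib.Schur.exists_sylow_extraspecial hσ (by norm_num) a b n ?_ a3 b3 eac ebc c1 ena enb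
    rw [hclos, card_cover]
    have h1 := (Nat.prime_three.pow_dvd_iff_le_factorization (k := 3) (n := 190080) (by norm_num)).mp (by norm_num)
    have h4 : ¬ 4 ≤ (190080 : ℕ).factorization 3 := fun h => by
      have := (Nat.prime_three.pow_dvd_iff_le_factorization (k := 4) (n := 190080) (by norm_num)).mpr h
      norm_num at this
    rw [show (190080 : ℕ).factorization 3 = 3 by omega]
    norm_num
  refine Cfsg.Lib.Schur.exists_sylow_cyclic hσ ?_
  rw [card_cover]
  intro hd'
  have hp' := hp.out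
  have hdp : p ∣ 2 ^ 7 * 3 ^ 3 * 5 * 11 := h0 ▸ dvd_trans (dvd_pow_self p two_ne_zero) hd'
  have hone : ∀ {q : ℕ}, q.Prime → p ∣ q → p = q := fun hq h => (Nat.prime_dvd_prime_iff_eq hp' hq).mp h
  rcases (Nat.Prime.dvd_mul hp').mp hdp with h | h
  rcases (Nat.Prime.dvd_mul hp').mp h with h | h
  rcases (Nat.Prime.dvd_mul hp').mp h with h | h
  · exact h2 (hone Nat.prime_two (hp'.dvd_of_dvd_pow h))
  · exact h3 (hone Nat.prime_three (hp'.dvd_of_dvd_pow h))
  all_goals (have := hone (by norm_num) h; subst this; norm_num at hd')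

theorem multiplier_M12 : Cfsg.HasCyclicSchurMultiplier Spor.M12 2 :=
  Cfsg.Lib.Schur.hasCyclicSchurMultiplier_of_cover coverHom cover_stem.1 cover_stem.2
    (fun _ _ _ _ hτ => cover_ker_eq_bot hτ)
    (isCyclic_of_prime_card (hp := ⟨Nat.prime_two⟩) card_ker_coverHom) card_ker_coverHom

end Cfsg.Lib.Golay
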